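import Cfsg.Agent.Lib.Grp.G24.D0

set_option autoImplicit false
set_option maxRecDepth 100000
set_option Elab.async false
set_option linter.unusedSectionVars false

namespace Cfsg.Agent.CG.G24

noncomputable def tc0t43 : Tr ℕ := (.node (.node (.leaf tc0t43_0) (.leaf tc0t43_2)) (.leaf tc0t43_1))
noncomputable def tc0t44 : Tr ℕ := (.node (.node (.leaf tc0t44_0) (.leaf tc0t44_2)) (.leaf tc0t44_1))
noncomputable def tc0t45 : Tr ℕ := (.node (.node (.leaf tc0t45_0) (.leaf tc0t45_2)) (.leaf tc0t45_1))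
noncomputable def tc0t46 : Tr ℕ := (.node (.node (.leaf tc0t46_0) (.leaf tc0t46_2)) (.leaf tc0t46_1))
noncomputable def tc0t47 : Tr ℕ := (.node (.node (.leaf tc0t47_0) (.leaf tc0t47_2)) (.leaf tc0t47_1))
noncomputable def tc0t48 : Tr ℕ := (.node (.node (.leaf tc0t48_0) (.leaf tc0t48_2)) (.leaf tc0t48_1))
noncomputable def tc0t49 : Tr ℕ := (.node (.node (.leaf tc0t49_0) (.leaf tc0t49_2)) (.leaf tc0t49_1))
noncomputable def tc0t50 : Tr ℕ := (.node (.node (.leaf tc0t50_0) (.leaf tc0t50_2)) (.leaf tc0t50_1))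
noncomputable def tc0t51 : Tr ℕ := (.node (.node (.leaf tc0t51_0) (.leaf tc0t51_2)) (.leaf tc0t51_1))
noncomputable def tc0t52 : Tr ℕ := (.node (.node (.leaf tc0t52_0) (.leaf tc0t52_2)) (.leaf tc0t52_1))
noncomputable def tc0t53 : Tr ℕ := (.node (.node (.leaf tc0t53_0) (.leaf tc0t53_2)) (.leaf tc0t53_1))
noncomputable def tc0d : Tr ℕ := (.node (.node (.leaf tc0d_0) (.leaf tc0d_2)) (.leaf tc0d_1))
noncomputable def tabs : List ℕ := [t0,t1,t2,t3,t4,t5,t6,t7,t8,t9,t10,t11,t12,t13,t14,t15,t16,t17,t18,t19,t20,t21,t22,t23,t24,t25,t26,t27,t28,t29,t30,t31,t32,t33,t34,t35,t36,t37,t38,t39,t40,t41,t42,t43,t44,t45,t46,t47,t48,t49,t50,t51,t52,t53]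
noncomputable abbrev app : ℕ → ℕ → ℕ := appT tabs t54 0xffff
noncomputable def slpL : List (Bool × List ℕ) := [(false,[]),
  (false,[]),
  (false,[]),
  (false,[1,1]),
  (true,[3]),
  (false,[2,0,1,0,2]),
  (true,[5]),
  (false,[5,5,5,5,5,5]),
  (false,[3]),
  (true,[8]),
  (false,[2,2,4,1,5,3,6,3,7,4,5,4,6,2,3,1,1]),
  (false,[8,8,10,8,8]),
  (true,[11]),
  (false,[12,10,8,10]),
  (true,[13]),
  (false,[11,10,13]),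
  (true,[15]),
  (false,[14,12,16,12,8]),
  (true,[17]),
  (false,[16,10,8,15,12]),
  (true,[19]),
  (false,[12,13,15,8,11]),
  (true,[21]),
  (false,[17,21]),
  (true,[23]),
  (false,[20,20]),
  (true,[25]),
  (false,[21,18,19]),
  (true,[27]),
  (false,[21,21,19]),
  (true,[29]),
  (false,[25,29]),
  (true,[31]),
  (false,[27,23,25]),
  (true,[33]),
  (false,[28,29,27]),
  (true,[35]),
  (false,[34,36]),
  (true,[37]),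
  (false,[31,36,31]),
  (true,[39]),
  (false,[40,40]),
  (false,[38,38]),
  (false,[41]),
  (false,[42]),
  (false,[37,41]),
  (true,[45]),
  (false,[39,42,41]),
  (true,[47]),
  (false,[32,39]),
  (true,[49]),
  (false,[26,26,34,32,37,41]),
  (false,[18,23,23,32,39,37]),
  (false,[16,13,10,15,10,18,18,28,25,33,32,41])]
noncomputable def slp (a : ℕ) : Bool × List ℕ := nth slpL (false, []) a
noncomputable def invL : List ℕ := [0,2,1,4,3,6,5,7,9,8,10,12,11,14,13,16,15,18,17,20,19,22,21,24,23,26,25,28,27,30,29,32,31,34,33,36,35,38,37,40,39,41,42,43,44,46,45,48,47,50,49,51,52,53]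
noncomputable def inv (a : ℕ) : ℕ := nth invL 54 a
noncomputable def bs : List ℕ := [496,976,14864,736,14880,512]
noncomputable def mc0 : Lvl := ⟨496, [8,9,10,11,12,13,14,15,16], 4095,
  fun i => look 0xffff mc0c (Nat.mul 16 i), fun i => look 0xfff mc0p (Nat.mul 12 i),
  fun i => look 0xff mc0l (Nat.mul 8 i), fun i => look 0xff mc0i (Nat.mul 8 i), fun x => look 0xffff mc0q x, 6⟩
noncomputable def mc1 : Lvl := ⟨976, [17,18,19,20,21,22], 20,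
  fun i => look 0xffff mc1c (Nat.mul 16 i), fun i => look 0xff mc1p (Nat.mul 8 i),
  fun i => look 0xff mc1l (Nat.mul 8 i), fun i => look 0xff mc1i (Nat.mul 8 i), fun x => look 0xffff mc1q x, 3⟩
noncomputable def mc2 : Lvl := ⟨14864, [23,24,25,26,27,28,29,30], 16,
  fun i => look 0xffff mc2c (Nat.mul 16 i), fun i => look 0xff mc2p (Nat.mul 8 i),
  fun i => look 0xff mc2l (Nat.mul 8 i), fun i => look 0xff mc2i (Nat.mul 8 i), fun x => look 0xffff mc2q x, 2⟩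
noncomputable def mc3 : Lvl := ⟨736, [31,32,33,34,35,36], 12,
  fun i => look 0xffff mc3c (Nat.mul 16 i), fun i => look 0xf mc3p (Nat.mul 4 i),
  fun i => look 0xff mc3l (Nat.mul 8 i), fun i => look 0xff mc3i (Nat.mul 8 i), fun x => look 0xffff mc3q x, 2⟩
noncomputable def mc4 : Lvl := ⟨14880, [37,38,39,40], 4,
  fun i => look 0xffff mc4c (Nat.mul 16 i), fun i => look 0xf mc4p (Nat.mul 4 i),
  fun i => look 0xff mc4l (Nat.mul 8 i), fun i => look 0xff mc4i (Nat.mul 8 i), fun x => look 0xffff mc4q x, 2⟩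
noncomputable def mc5 : Lvl := ⟨512, [41,42], 4,
  fun i => look 0xffff mc5c (Nat.mul 16 i), fun i => look 0xf mc5p (Nat.mul 4 i),
  fun i => look 0xff mc5l (Nat.mul 8 i), fun i => look 0xff mc5i (Nat.mul 8 i), fun x => look 0xffff mc5q x, 2⟩
noncomputable def mc : List Lvl := [mc0, mc1, mc2, mc3, mc4, mc5]
noncomputable def tcR : List (List ℕ) := [[43,43],
  [44,44],
  [43,44,43,44],
  [45,46],
  [46,45],
  [47,48],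
  [48,47],
  [45,45,44],
  [47,47,43],
  [46,43,45,43],
  [48,44,47,44],
  [46,48,45,47],
  [49,50],
  [50,49],
  [50,43,49,43],
  [50,44,49,44],
  [49,49,49,43],
  [49,46,49,45,49,46],
  [49,48,49,47,49,48],
  [50,48,49,46,50,47,49,43,46],
  [51,51],
  [51,43,51,43],
  [51,44,51,44],
  [51,46,51,46],
  [51,48,51,48],
  [51,49,51,49,51,49],
  [52,52],
  [52,48,50,52,48,50],
  [52,47,49,46,52,50,51,50,48],
  [44,49,52,45,50,52,45,49,51,45,52],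
  [52,48,52,48,52,48,49,52,50,52,43],
  [53,53],
  [53,48,53,48,53,48],
  [53,44,53,43,53,44,53,43],
  [53,44,53,44,53,44,53,44],
  [53,44,53,45,53,44,53,43,46],
  [53,43,53,46,53,43,53,43,46],
  [53,44,53,47,53,44,53,44,48],
  [53,43,53,50,53,43,53,48,49],
  [53,43,53,51,53,43,53,48,51],
  [53,51,47,49,47,53,48,50,48,51],
  [53,44,53,50,53,44,53,46,48,49],
  [53,46,53,50,51,53,45,53,51,49],
  [52,53,52,50,48,52,53,52,47,49],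
  [53,47,52,45,47,50,53,49,46,48,52,48]]
noncomputable def tc0T : List (Tr ℕ) := [.leaf 0,.leaf 0,.leaf 0,.leaf 0,.leaf 0,.leaf 0,.leaf 0,.leaf 0,.leaf 0,.leaf 0,.leaf 0,.leaf 0,.leaf 0,.leaf 0,.leaf 0,.leaf 0,.leaf 0,.leaf 0,.leaf 0,.leaf 0,.leaf 0,.leaf 0,.leaf 0,.leaf 0,.leaf 0,.leaf 0,.leaf 0,.leaf 0,.leaf 0,.leaf 0,.leaf 0,.leaf 0,.leaf 0,.leaf 0,.leaf 0,.leaf 0,.leaf 0,.leaf 0,.leaf 0,.leaf 0,.leaf 0,.leaf 0,.leaf 0,tc0t43,tc0t44,tc0t45,tc0t46,tc0t47,tc0t48,tc0t49,tc0t50,tc0t51,tc0t52,tc0t53]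
noncomputable def tc0r : Tr Rule := (.node (.node (.node (.node (.node (.node (.node (.node (.leaf ⟨53,[53],31,1⟩) (.leaf ⟨50,[53,44,53,46,48,49,53,44,53],41,3⟩)) (.node (.leaf ⟨44,[53,43,46,53,44,53,45,53],35,5⟩) (.leaf ⟨48,[52,53,52,47,49,52,53,52,50],43,4⟩))) (.node (.node (.leaf ⟨49,[49,49,43],16,0⟩) (.leaf ⟨45,[47,50,53,49,46,48,52,48,53,47,52],44,3⟩)) (.node (.leaf ⟨53,[48,51,53,43,53,51,53,43],39,6⟩) (.leaf ⟨52,[48,53,47,52,45,47,50,53,49,46,48],44,10⟩)))) (.node (.node (.node (.leaf ⟨43,[49,43,50],14,1⟩) (.leaf ⟨53,[43,53,44,53,43,53,44],33,6⟩)) (.node (.leaf ⟨47,[53,44,53,44,48,53,44,53],37,3⟩) (.leaf ⟨47,[53,48,50,48,51,53,51,47,49],40,4⟩))) (.node (.node (.leaf ⟨49,[45,49,46,49,46],17,2⟩) (.leaf ⟨52,[50,48,52,53,52,47,49,52,53],43,2⟩)) (.leaf ⟨46,[52,50,51,50,48,52,47,49],28,3⟩)))) (.node (.node (.node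 (.node (.leaf ⟨49,[50],12,0⟩) (.leaf ⟨43,[44,43,44],2,0⟩)) (.node (.leaf ⟨53,[43,53,43,46,53,43,53,46],36,4⟩) (.leaf ⟨53,[43,53,48,49,53,43,53,50],38,4⟩))) (.node (.node (.leaf ⟨46,[51,46,51],23,1⟩) (.leaf ⟨51,[44,51,44],22,0⟩)) (.leaf ⟨51,[46,51,46],23,2⟩))) (.node (.node (.node (.leaf ⟨44,[51,44,51],22,3⟩) (.leaf ⟨46,[53,50,51,53,45,53,51,49,53],42,1⟩)) (.node (.leaf ⟨50,[53,43,53,48,49,53,43,53],38,3⟩) (.leaf ⟨53,[44,53,44,53,44,53,44],34,0⟩))) (.node (.node (.leaf ⟨47,[49,43,46,50,48,49,46,50],19,5⟩) (.leaf ⟨51,[43,51,43],21,0⟩)) (.leaf ⟨49,[51,49,51,49,51],25,3⟩))))) (.node (.node (.node (.node (.node (.leaf ⟨45,[46],3,0⟩) (.leaf ⟨44,[53,50,53,44,53,46,48,49,53],41,1⟩)) (.node (.leaf ⟨53,[45,53,44,53,43,46,53,44],35,2⟩) (.leaf ⟨51,[53,43,53,51,53,43,53,48],39,8⟩))) (.node (.node (.leaf ⟨47,[46,48,45],11,3⟩)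 (.leaf ⟨52,[48,50,52,48,50],27,0⟩)) (.leaf ⟨53,[43,53,51,53,43,53,48,51],39,0⟩))) (.node (.node (.node (.leaf ⟨44,[48,44,47],10,3⟩) (.leaf ⟨43,[52,48,52,48,52,48,49,52,50,52],30,10⟩)) (.node (.leaf ⟨53,[44,53,44,48,53,44,53,47],37,4⟩) (.leaf ⟨53,[44,53,44,53,44,53,44],34,4⟩))) (.node (.node (.leaf ⟨51,[43,51,43],21,2⟩) (.leaf ⟨48,[50,52,48,50,52],27,1⟩)) (.leaf ⟨49,[47,53,48,50,48,51,53,51,47],40,3⟩)))) (.node (.node (.node (.node (.leaf ⟨47,[43,47],8,1⟩) (.leaf ⟨53,[44,53,43,53,44,53,43],33,4⟩)) (.node (.leaf ⟨53,[48,53,48,53,48],32,2⟩) (.leaf ⟨50,[51,53,45,53,51,49,53,46,53],42,3⟩))) (.node (.node (.leaf ⟨49,[44,50,44],15,2⟩) (.leaf ⟨51,[49,51,49,51,49],25,0⟩)) (.leaf ⟨52,[50,51,50,48,52,47,49,46],28,4⟩))) (.node (.node (.node (.leaf ⟨45,[47,46,48],11,2⟩) (.leaf ⟨50,[47,49,43,46,50,48,49,46],19,4⟩)) (.node (.leaf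 ⟨53,[50,53,43,53,48,49,53,43],38,2⟩) (.leaf ⟨47,[49,52,53,52,50,48,52,53,52],43,8⟩))) (.node (.node (.leaf ⟨44,[53,43,53,44,53,43,53],33,5⟩) (.leaf ⟨53,[51,53,43,53,48,51,53,43],39,2⟩)) (.leaf ⟨48,[49,47,49,48,49],18,1⟩)))))) (.node (.node (.node (.node (.node (.node (.leaf ⟨44,[44],1,1⟩) (.leaf ⟨44,[53,46,48,49,53,44,53,50,53],41,5⟩)) (.node (.leaf ⟨46,[53,44,53,45,53,44,53,43],35,8⟩) (.leaf ⟨53,[50,51,53,45,53,51,49,53,46],42,2⟩))) (.node (.node (.leaf ⟨47,[44,48,44],10,2⟩) (.leaf ⟨50,[51,50,48,52,47,49,46,52],28,5⟩)) (.leaf ⟨53,[43,53,48,51,53,43,53,51],39,4⟩))) (.node (.node (.node (.leaf ⟨43,[51,43,51],21,3⟩) (.leaf ⟨46,[43,45,43],9,0⟩)) (.node (.leaf ⟨44,[53,44,48,53,44,53,47,53],37,5⟩) (.leaf ⟨43,[46,53,43,53,46,53,43,53],36,7⟩))) (.node (.node (.leaf ⟨49,[47,49,48,49,48],18,2⟩) (.leaf ⟨52,[48,52,48,52,48,49,52,50,52,43],30,0⟩))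 (.leaf ⟨47,[49,47,53,48,50,48,51,53,51],40,2⟩)))) (.node (.node (.node (.node (.leaf ⟨52,[52],26,1⟩) (.leaf ⟨45,[43,46,43],9,2⟩)) (.node (.leaf ⟨53,[43,53,46,53,43,53,43,46],36,0⟩) (.leaf ⟨52,[53,52,47,49,52,53,52,50,48],43,5⟩))) (.node (.node (.leaf ⟨50,[43,49,43],14,0⟩) (.leaf ⟨52,[48,52,48,49,52,50,52,43,52,48],30,2⟩)) (.leaf ⟨52,[45,50,52,45,49,51,45,52,44,49],29,2⟩))) (.node (.node (.node (.leaf ⟨45,[45,44],7,0⟩) (.leaf ⟨50,[48,52,53,52,47,49,52,53,52],43,3⟩)) (.node (.leaf ⟨43,[53,50,53,43,53,48,49,53],38,1⟩) (.leaf ⟨53,[43,46,53,44,53,45,53,44],35,6⟩))) (.node (.node (.leaf ⟨53,[48,53,48,53,48],32,4⟩) (.leaf ⟨43,[49,49,49],16,3⟩)) (.leaf ⟨49,[51,49,51,49,51],25,5⟩))))) (.node (.node (.node (.node (.node (.leaf ⟨47,[48],5,0⟩) (.leaf ⟨53,[44,53,46,48,49,53,44,53,50],41,4⟩)) (.node (.leaf ⟨43,[53,43,46,53,43,53,46,53],36,5⟩)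 (.leaf ⟨49,[53,46,53,50,51,53,45,53,51],42,9⟩))) (.node (.node (.leaf ⟨48,[51,48,51],24,3⟩) (.leaf ⟨53,[48,50,48,51,53,51,47,49,47],40,5⟩)) (.leaf ⟨51,[50,48,52,47,49,46,52,50],28,6⟩))) (.node (.node (.node (.leaf ⟨44,[50,44,49],15,3⟩) (.leaf ⟨51,[53,45,53,51,49,53,46,53,50],42,4⟩)) (.node (.leaf ⟨43,[53,46,53,43,53,43,46,53],36,1⟩) (.leaf ⟨53,[51,49,53,46,53,50,51,53,45],42,7⟩))) (.node (.node (.leaf ⟨48,[49,48,49,47,49],18,5⟩) (.leaf ⟨50,[48,52,47,49,46,52,50,51],28,7⟩)) (.leaf ⟨51,[48,51,48],24,0⟩)))) (.node (.node (.node (.node (.leaf ⟨43,[45,43,46],9,1⟩) (.leaf ⟨51,[53,51,47,49,47,53,48,50,48],40,9⟩)) (.node (.leaf ⟨43,[53,44,53,43,53,44,53],33,7⟩) (.leaf ⟨48,[51,53,43,53,51,53,43,53],39,7⟩))) (.node (.node (.leaf ⟨49,[43,50,43],14,2⟩) (.leaf ⟨53,[52,47,49,52,53,52,50,48,52],43,6⟩)) (.leaf ⟨48,[52,48,49,52,50,52,43,52,48,52],30,3⟩)))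 (.node (.node (.node (.leaf ⟨43,[47,47],8,2⟩) (.leaf ⟨46,[49,46,49,45,49],17,5⟩)) (.node (.leaf ⟨44,[53,47,53,44,53,44,48,53],37,1⟩) (.leaf ⟨48,[49,53,44,53,50,53,44,53,46],41,8⟩))) (.node (.node (.leaf ⟨44,[53,44,53,44,53,44,53],34,5⟩) (.leaf ⟨51,[47,49,47,53,48,50,48,51,53],40,1⟩)) (.leaf ⟨45,[49,51,45,52,44,49,52,45,50,52],29,6⟩))))))) (.node (.node (.node (.node (.node (.node (.node (.leaf ⟨43,[43],0,1⟩) (.leaf ⟨49,[53,44,53,50,53,44,53,46,48],41,9⟩)) (.node (.leaf ⟨45,[53,44,53,43,46,53,44,53],35,3⟩) (.leaf ⟨46,[53,43,53,46,53,43,53,43],36,8⟩))) (.node (.node (.leaf ⟨48,[44,47,44],10,0⟩) (.leaf ⟨46,[49,45,49,46,49],17,1⟩)) (.node (.leaf ⟨43,[53,48,51,53,43,53,51,53],39,5⟩) (.leaf ⟨52,[45,47,50,53,49,46,48,52,48,53,47],44,2⟩)))) (.node (.node (.node (.leaf ⟨49,[49,43,49],16,1⟩) (.leaf ⟨44,[43,44,43],2,1⟩)) (.node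 (.leaf ⟨48,[53,44,53,47,53,44,53,44],37,8⟩) (.leaf ⟨44,[53,44,53,44,53,44,53],34,1⟩))) (.node (.node (.leaf ⟨49,[48,49,48,49,47],18,4⟩) (.leaf ⟨50,[48,49,46,50,47,49,43,46],19,0⟩)) (.leaf ⟨48,[51,53,51,47,49,47,53,48,50],40,8⟩)))) (.node (.node (.node (.node (.leaf ⟨51,[51],20,1⟩) (.leaf ⟨48,[53,48,53,48,53],32,1⟩)) (.node (.leaf ⟨53,[46,53,43,53,43,46,53,43],36,2⟩) (.leaf ⟨50,[52,45,49,51,45,52,44,49,52,45],29,4⟩))) (.node (.node (.leaf ⟨49,[46,49,45,49,46],17,0⟩) (.leaf ⟨52,[43,52,48,52,48,52,48,49,52,50],30,9⟩)) (.leaf ⟨51,[48,51,48],24,2⟩))) (.node (.node (.node (.leaf ⟨44,[45,45],7,2⟩) (.leaf ⟨48,[50,48,51,53,51,47,49,47,53],40,6⟩)) (.node (.leaf ⟨49,[53,43,53,50,53,43,53,48],38,8⟩) (.leaf ⟨52,[47,49,52,53,52,50,48,52,53],43,7⟩))) (.node (.node (.leaf ⟨48,[49,46,50,47,49,43,46,50],19,1⟩) (.leaf ⟨51,[46,51,46],23,0⟩))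 (.leaf ⟨45,[49,46,49,46,49],17,3⟩))))) (.node (.node (.node (.node (.node (.leaf ⟨48,[47],5,1⟩) (.leaf ⟨53,[44,53,50,53,44,53,46,48,49],41,0⟩)) (.node (.leaf ⟨43,[46,53,44,53,45,53,44,53],35,7⟩) (.leaf ⟨53,[46,53,50,51,53,45,53,51,49],42,0⟩))) (.node (.node (.leaf ⟨49,[43,49,49],16,2⟩) (.leaf ⟨44,[53,43,53,44,53,43,53],33,1⟩)) (.leaf ⟨49,[46,52,50,51,50,48,52,47],28,2⟩))) (.node (.node (.node (.leaf ⟨44,[47,44,48],10,1⟩) (.leaf ⟨45,[53,51,49,53,46,53,50,51,53],42,6⟩)) (.node (.leaf ⟨44,[48,53,44,53,47,53,44,53],37,7⟩) (.leaf ⟨46,[48,49,53,44,53,50,53,44,53],41,7⟩))) (.node (.node (.leaf ⟨50,[52,48,50,52,48],27,5⟩) (.leaf ⟨44,[51,44,51],22,1⟩)) (.leaf ⟨53,[51,47,49,47,53,48,50,48,51],40,0⟩)))) (.node (.node (.node (.node (.leaf ⟨43,[46,43,45],9,3⟩) (.leaf ⟨53,[44,53,45,53,44,53,43,46],35,0⟩)) (.node (.leaf ⟨44,[53,45,53,44,53,43,46,53],35,1⟩)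 (.leaf ⟨53,[44,53,44,53,44,53,44],34,2⟩))) (.node (.node (.leaf ⟨48,[50,52,48,50,52],27,4⟩) (.leaf ⟨49,[46,50,47,49,43,46,50,48],19,2⟩)) (.leaf ⟨52,[47,49,46,52,50,51,50,48],28,0⟩))) (.node (.node (.node (.leaf ⟨46,[51,46,51],23,3⟩) (.leaf ⟨48,[52,47,49,46,52,50,51,50],28,8⟩)) (.node (.leaf ⟨53,[43,53,50,53,43,53,48,49],38,0⟩) (.leaf ⟨48,[49,53,43,53,50,53,43,53],38,7⟩))) (.node (.node (.leaf ⟨43,[53,44,53,43,53,44,53],33,3⟩) (.leaf ⟨46,[50,47,49,43,46,50,48,49],19,3⟩)) (.leaf ⟨51,[49,51,49,51,49],25,2⟩)))))) (.node (.node (.node (.node (.node (.node (.leaf ⟨46,[45],3,1⟩) (.leaf ⟨53,[50,53,44,53,46,48,49,53,44],41,2⟩)) (.node (.leaf ⟨53,[44,53,43,46,53,44,53,45],35,4⟩) (.leaf ⟨53,[45,53,51,49,53,46,53,50,51],42,5⟩))) (.node (.node (.leaf ⟨48,[45,47,46],11,1⟩) (.leaf ⟨47,[49,46,52,50,51,50,48,52],28,1⟩)) (.leaf ⟨43,[53,51,53,43,53,48,51,53],39,1⟩)))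 (.node (.node (.node (.leaf ⟨45,[44,45],7,1⟩) (.leaf ⟨52,[44,49,52,45,50,52,45,49,51,45],29,10⟩)) (.node (.leaf ⟨53,[47,53,44,53,44,48,53,44],37,2⟩) (.leaf ⟨44,[53,44,53,44,53,44,53],34,7⟩))) (.node (.node (.leaf ⟨51,[49,51,49,51,49],25,4⟩) (.leaf ⟨53,[52,50,48,52,53,52,47,49,52],43,1⟩)) (.leaf ⟨50,[48,51,53,51,47,49,47,53,48],40,7⟩)))) (.node (.node (.node (.node (.leaf ⟨43,[44,43,44],2,2⟩) (.leaf ⟨53,[44,53,44,53,44,53,44],34,6⟩)) (.node (.leaf ⟨53,[48,53,48,53,48],32,0⟩) (.leaf ⟨52,[53,52,50,48,52,53,52,47,49],43,0⟩))) (.node (.node (.leaf ⟨50,[44,49,44],15,0⟩) (.leaf ⟨53,[44,53,43,53,44,53,43],33,0⟩)) (.leaf ⟨52,[48,50,52,48,50],27,3⟩))) (.node (.node (.node (.leaf ⟨46,[48,45,47],11,0⟩) (.leaf ⟨49,[52,53,52,50,48,52,53,52,47],43,9⟩)) (.node (.leaf ⟨53,[48,49,53,43,53,50,53,43],38,6⟩) (.leaf ⟨53,[43,46,53,43,53,46,53,43],36,6⟩)))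 (.node (.node (.leaf ⟨48,[53,48,53,48,53],32,3⟩) (.leaf ⟨53,[43,53,44,53,43,53,44],33,2⟩)) (.leaf ⟨48,[53,48,53,48,53],32,5⟩))))) (.node (.node (.node (.node (.node (.leaf ⟨50,[49],12,1⟩) (.leaf ⟨44,[43,44,43],2,3⟩)) (.node (.leaf ⟨46,[53,43,53,43,46,53,43,53],36,3⟩) (.leaf ⟨53,[49,46,48,52,48,53,47,52,45,47,50],44,6⟩))) (.node (.node (.leaf ⟨48,[51,48,51],24,1⟩) (.leaf ⟨44,[49,52,45,50,52,45,49,51,45,52],29,0⟩)) (.leaf ⟨51,[44,51,44],22,2⟩))) (.node (.node (.node (.leaf ⟨44,[49,44,50],15,1⟩) (.leaf ⟨51,[49,53,46,53,50,51,53,45,53],42,8⟩)) (.node (.leaf ⟨43,[53,48,49,53,43,53,50,53],38,5⟩) (.leaf ⟨49,[43,46,50,48,49,46,50,47],19,6⟩))) (.node (.node (.leaf ⟨49,[48,49,47,49,48],18,0⟩) (.leaf ⟨43,[51,43,51],21,1⟩)) (.leaf ⟨47,[49,48,49,48,49],18,3⟩)))) (.node (.node (.node (.node (.leaf ⟨43,[50,43,49],14,3⟩) (.leaf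 ⟨53,[44,53,47,53,44,53,44,48],37,0⟩)) (.node (.leaf ⟨53,[44,48,53,44,53,47,53,44],37,6⟩) (.leaf ⟨45,[52,44,49,52,45,50,52,45,49,51],29,9⟩))) (.node (.node (.leaf ⟨49,[46,49,46,49,45],17,4⟩) (.leaf ⟨48,[52,48,52,48,49,52,50,52,43,52],30,1⟩)) (.leaf ⟨50,[52,48,50,52,48],27,2⟩))) (.node (.node (.node (.leaf ⟨47,[47,43],8,0⟩) (.leaf ⟨48,[52,48,53,47,52,45,47,50,53,49,46],44,9⟩)) (.node (.leaf ⟨51,[53,43,53,48,51,53,43,53],39,3⟩) (.leaf ⟨46,[50,48,49,46,50,47,49,43],19,8⟩))) (.node (.node (.leaf ⟨44,[53,44,53,44,53,44,53],34,3⟩) (.leaf ⟨49,[51,49,51,49,51],25,1⟩)) (.leaf ⟨53,[46,48,49,53,44,53,50,53,44],41,6⟩))))))))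
noncomputable def tc0 : TCL := ⟨[43,44,45,46,47,48,49,50,51,52,53], [43,44,45,46,47,48,49,50,51,52], 4095, 36, 0x3ffff, 18, 0xff,
  fun a x => appB tc0T (.leaf 0) 0xfffffffff a x, fun x => lk2 tc0d 0xfffffffff x, tc0r⟩
noncomputable def tc1T : List ℕ := [0,0,0,0,0,0,0,0,0,0,0,0,0,0,0,0,0,0,0,0,0,0,0,0,0,0,0,0,0,0,0,0,0,0,0,0,0,0,0,0,0,0,0,tc1t43,tc1t44,tc1t45,tc1t46,tc1t47,tc1t48,tc1t49,tc1t50,tc1t51,tc1t52]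
noncomputable def tc1r : Tr Rule := (.node (.node (.node (.node (.node (.node (.leaf ⟨52,[52],26,1⟩) (.leaf ⟨49,[49,43,49],16,1⟩)) (.node (.leaf ⟨46,[48,45,47],11,0⟩) (.leaf ⟨50,[52,43,52,48,52,48,52,48,49,52],30,8⟩))) (.node (.node (.leaf ⟨47,[43,47],8,1⟩) (.leaf ⟨51,[46,51,46],23,2⟩)) (.leaf ⟨50,[52,48,50,52,48],27,5⟩))) (.node (.node (.node (.leaf ⟨45,[46],3,0⟩) (.leaf ⟨49,[48,49,48,49,47],18,4⟩)) (.leaf ⟨48,[44,47,44],10,0⟩)) (.node (.node (.leaf ⟨44,[48,44,47],10,3⟩) (.leaf ⟨52,[45,50,52,45,49,51,45,52,44,49],29,2⟩)) (.leaf ⟨50,[49],12,1⟩)))) (.node (.node (.node (.node (.leaf ⟨44,[44],1,1⟩) (.leaf ⟨49,[46,49,46,49,45],17,4⟩)) (.node (.leaf ⟨43,[47,47],8,2⟩) (.leaf ⟨48,[52,48,49,52,50,52,43,52,48,52],30,3⟩))) (.node (.node (.leaf ⟨43,[45,43,46],9,1⟩) (.leaf ⟨51,[51],20,1⟩)) (.leaf ⟨49,[43,50,43],14,2⟩))) (.node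 (.node (.node (.leaf ⟨47,[48],5,0⟩) (.leaf ⟨51,[43,51,43],21,2⟩)) (.leaf ⟨48,[45,47,46],11,1⟩)) (.node (.node (.leaf ⟨44,[45,45],7,2⟩) (.leaf ⟨52,[48,50,52,48,50],27,3⟩)) (.leaf ⟨49,[46,52,50,51,50,48,52,47],28,2⟩))))) (.node (.node (.node (.node (.node (.leaf ⟨43,[43],0,1⟩) (.leaf ⟨49,[49,49,43],16,0⟩)) (.node (.leaf ⟨45,[47,46,48],11,2⟩) (.leaf ⟨43,[52,48,52,48,52,48,49,52,50,52],30,10⟩))) (.node (.node (.leaf ⟨43,[46,43,45],9,3⟩) (.leaf ⟨51,[48,51,48],24,2⟩)) (.leaf ⟨49,[50],12,0⟩))) (.node (.node (.node (.leaf ⟨48,[47],5,1⟩) (.leaf ⟨51,[50,48,52,47,49,46,52,50],28,6⟩)) (.leaf ⟨47,[44,48,44],10,2⟩)) (.node (.node (.leaf ⟨44,[47,44,48],10,1⟩) (.leaf ⟨52,[44,49,52,45,50,52,45,49,51,45],29,10⟩)) (.leaf ⟨50,[44,49,44],15,0⟩)))) (.node (.node (.node (.node (.leaf ⟨46,[45],3,1⟩) (.leaf ⟨49,[45,49,46,49,46],17,2⟩))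 (.node (.leaf ⟨47,[47,43],8,0⟩) (.leaf ⟨46,[52,50,51,50,48,52,47,49],28,3⟩))) (.node (.node (.leaf ⟨45,[44,45],7,1⟩) (.leaf ⟨52,[45,49,51,45,52,44,49,52,45,50],29,5⟩)) (.leaf ⟨49,[44,50,44],15,2⟩))) (.node (.node (.node (.leaf ⟨43,[44,43,44],2,2⟩) (.leaf ⟨51,[44,51,44],22,2⟩)) (.leaf ⟨47,[46,48,45],11,3⟩)) (.node (.node (.leaf ⟨45,[45,44],7,0⟩) (.leaf ⟨52,[47,49,46,52,50,51,50,48],28,0⟩)) (.leaf ⟨50,[43,49,43],14,0⟩))))))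
noncomputable def tc1 : TCL := ⟨[43,44,45,46,47,48,49,50,51,52], [43,44,45,46,47,48,49,50,51], 20, 20, 0x1ff, 9, 0x3f,
  fun a x => look 0xfffff (nth tc1T 0 a) x, fun x => look 0xfffff tc1d x, tc1r⟩
noncomputable def tc2T : List ℕ := [0,0,0,0,0,0,0,0,0,0,0,0,0,0,0,0,0,0,0,0,0,0,0,0,0,0,0,0,0,0,0,0,0,0,0,0,0,0,0,0,0,0,0,tc2t43,tc2t44,tc2t45,tc2t46,tc2t47,tc2t48,tc2t49,tc2t50,tc2t51]
noncomputable def tc2r : Tr Rule := (.node (.node (.node (.node (.node (.node (.leaf ⟨51,[51],20,1⟩) (.leaf ⟨47,[49,48,49,48,49],18,3⟩)) (.leaf ⟨44,[50,44,49],15,3⟩)) (.node (.leaf ⟨43,[49,43,50],14,1⟩) (.leaf ⟨49,[46,49,46,49,45],17,4⟩))) (.node (.node (.node (.leaf ⟨48,[47],5,1⟩) (.leaf ⟨49,[51,49,51,49,51],25,3⟩)) (.leaf ⟨44,[45,45],7,2⟩)) (.node (.leaf ⟨43,[47,47],8,2⟩) (.leaf ⟨46,[50,48,49,46,50,47,49,43],19,8⟩)))) (.node (.node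 (.node (.node (.leaf ⟨49,[50],12,0⟩) (.leaf ⟨51,[46,51,46],23,2⟩)) (.leaf ⟨45,[45,44],7,0⟩)) (.node (.leaf ⟨47,[47,43],8,0⟩) (.leaf ⟨46,[49,46,49,45,49],17,5⟩))) (.node (.node (.leaf ⟨43,[51,43,51],21,3⟩) (.leaf ⟨45,[46],3,0⟩)) (.node (.leaf ⟨47,[48],5,0⟩) (.leaf ⟨49,[48,49,48,49,47],18,4⟩))))) (.node (.node (.node (.node (.node (.leaf ⟨50,[49],12,1⟩) (.leaf ⟨51,[49,51,49,51,49],25,4⟩)) (.leaf ⟨44,[49,44,50],15,1⟩)) (.node (.leaf ⟨49,[49,43,49],16,1⟩) (.leaf ⟨49,[43,49,49],16,2⟩))) (.node (.node (.leaf ⟨45,[47,46,48],11,2⟩) (.leaf ⟨46,[48,45,47],11,0⟩)) (.node (.leaf ⟨48,[45,47,46],11,1⟩) (.leaf ⟨48,[51,48,51],24,3⟩)))) (.node (.node (.node (.node (.leaf ⟨46,[45],3,1⟩) (.leaf ⟨51,[48,51,48],24,2⟩)) (.leaf ⟨44,[48,44,47],10,3⟩)) (.node (.leaf ⟨43,[45,43,46],9,1⟩) (.leaf ⟨45,[49,46,49,46,49],17,3⟩))) (.node (.node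 (.leaf ⟨43,[50,43,49],14,3⟩) (.leaf ⟨46,[51,46,51],23,3⟩)) (.node (.leaf ⟨44,[51,44,51],22,3⟩) (.leaf ⟨48,[49,48,49,47,49],18,5⟩))))))
noncomputable def tc2 : TCL := ⟨[43,44,45,46,47,48,49,50,51], [43,44,45,46,47,48,49,50], 16, 20, 0x1ff, 9, 0x3f,
  fun a x => look 0xfffff (nth tc2T 0 a) x, fun x => look 0xfffff tc2d x, tc2r⟩
noncomputable def tc3T : List ℕ := [0,0,0,0,0,0,0,0,0,0,0,0,0,0,0,0,0,0,0,0,0,0,0,0,0,0,0,0,0,0,0,0,0,0,0,0,0,0,0,0,0,0,0,tc3t43,tc3t44,tc3t45,tc3t46,tc3t47,tc3t48,tc3t49,tc3t50]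
noncomputable def tc3r : Tr Rule := (.node (.node (.node (.node (.node (.leaf ⟨50,[49],12,1⟩) (.leaf ⟨44,[45,45],7,2⟩)) (.node (.leaf ⟨43,[45,43,46],9,1⟩) (.leaf ⟨48,[49,48,49,47,49],18,5⟩))) (.node (.node (.leaf ⟨45,[47,46,48],11,2⟩) (.leaf ⟨49,[46,49,46,49,45],17,4⟩)) (.node (.leaf ⟨44,[50,44,49],15,3⟩) (.leaf ⟨50,[47,49,43,46,50,48,49,46],19,4⟩)))) (.node (.node (.node (.leaf ⟨46,[45],3,1⟩) (.leaf ⟨45,[46],3,0⟩)) (.node (.leaf ⟨48,[45,47,46],11,1⟩) (.leaf ⟨47,[49,43,46,50,48,49,46,50],19,5⟩))) (.node (.node (.leaf ⟨43,[49,43,50],14,1⟩) (.leaf ⟨45,[49,46,49,46,49],17,3⟩)) (.node (.leaf ⟨45,[45,44],7,0⟩) (.leaf ⟨48,[49,46,50,47,49,43,46,50],19,1⟩))))) (.node (.node (.node (.node (.leaf ⟨49,[50],12,0⟩) (.leaf ⟨46,[48,45,47],11,0⟩)) (.node (.leaf ⟨43,[47,47],8,2⟩) (.leaf ⟨47,[49,48,49,48,49],18,3⟩))) (.node (.node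 (.leaf ⟨43,[50,43,49],14,3⟩) (.leaf ⟨46,[49,46,49,45,49],17,5⟩)) (.node (.leaf ⟨44,[49,44,50],15,1⟩) (.leaf ⟨49,[46,50,47,49,43,46,50,48],19,2⟩)))) (.node (.node (.node (.leaf ⟨48,[47],5,1⟩) (.leaf ⟨49,[43,49,49],16,2⟩)) (.node (.leaf ⟨47,[48],5,0⟩) (.leaf ⟨46,[50,47,49,43,46,50,48,49],19,3⟩))) (.node (.node (.leaf ⟨47,[47,43],8,0⟩) (.leaf ⟨49,[48,49,48,49,47],18,4⟩)) (.leaf ⟨44,[48,44,47],10,3⟩)))))
noncomputable def tc3 : TCL := ⟨[43,44,45,46,47,48,49,50], [43,44,45,46,47,48], 12, 20, 0xff, 8, 0x3f,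
  fun a x => look 0xfffff (nth tc3T 0 a) x, fun x => look 0xfffff tc3d x, tc3r⟩
noncomputable def tc4T : List ℕ := [0,0,0,0,0,0,0,0,0,0,0,0,0,0,0,0,0,0,0,0,0,0,0,0,0,0,0,0,0,0,0,0,0,0,0,0,0,0,0,0,0,0,0,tc4t43,tc4t44,tc4t45,tc4t46,tc4t47,tc4t48]
noncomputable def tc4r : Tr Rule := (.node (.node (.node (.node (.leaf ⟨46,[45],3,1⟩) (.leaf ⟨45,[47,46,48],11,2⟩)) (.leaf ⟨47,[47,43],8,0⟩)) (.node (.leaf ⟨45,[45,44],7,0⟩) (.leaf ⟨43,[46,43,45],9,3⟩))) (.node (.node (.node (.leaf ⟨48,[47],5,1⟩) (.leaf ⟨46,[48,45,47],11,0⟩)) (.leaf ⟨43,[47,47],8,2⟩)) (.node (.leaf ⟨44,[45,45],7,2⟩) (.leaf ⟨44,[48,44,47],10,3⟩))))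
noncomputable def tc4 : TCL := ⟨[43,44,45,46,47,48], [43,44], 4, 16, 0x7f, 7, 0xf,
  fun a x => look 0xffff (nth tc4T 0 a) x, fun x => look 0xffff tc4d x, tc4r⟩
noncomputable def tc5T : List ℕ := [0,0,0,0,0,0,0,0,0,0,0,0,0,0,0,0,0,0,0,0,0,0,0,0,0,0,0,0,0,0,0,0,0,0,0,0,0,0,0,0,0,0,0,tc5t43,tc5t44]
noncomputable def tc5r : Tr Rule := (.node (.node (.leaf ⟨43,[43],0,1⟩) (.leaf ⟨43,[44,43,44],2,2⟩)) (.leaf ⟨44,[44],1,1⟩))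
noncomputable def tc5 : TCL := ⟨[43,44], [], 4, 16, 0x7f, 7, 0x7,
  fun a x => look 0xffff (nth tc5T 0 a) x, fun x => look 0xffff tc5d x, tc5r⟩
noncomputable def tc : List TCL := [tc0, tc1, tc2, tc3, tc4, tc5]
noncomputable def inW : List (List ℕ) := [[48,44,52,53,43,53,44,52,45,50,51,49,47,45,44,43],
  [53,45,52,50,53,48,46,52,45,50,51,49,47],
  [52,53,47,45,49,53,47,44,52,51,47,50,45]]
noncomputable def tcS : List ℕ := [43,44,45,46,47,48,49,50,51,52,53]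

end Cfsg.Agent.CG.G24
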