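import Cfsg.Agent.Lib.Grp.G24.C0

set_option autoImplicit false
set_option maxRecDepth 100000
set_option Elab.async false
set_option linter.unusedSectionVars false

namespace Cfsg.Agent.CG.G24

theorem tabOK : TabOK 4095 16 app 3 54 inv slp where
  w_pos := by decide
  base := allRange_of_allL (l := [0,1,2]) (by decide +kernel) (allL_cons (allLt_of_allRange c0) (allL_cons (allLt_of_allRange c1) (allL_cons (allLt_of_allRange c2) (allL_nil _))))
  defs := allRange_of_allL (l := [3,4,5,6,7,8,9,10,11,12,13,14,15,16,17,18,19,20,21,22,23,24,25,26,27,28,29,30,31,32,33,34,35,36,37,38,39,40,41,42,43,44,45,46,47,48,49,50,51,52,53]) (by decide +kernel) (allL_cons c3 (allL_cons c4 (allL_cons c5 (allL_cons c6 (allL_cons c7 (allL_cons c8 (allL_cons c9 (allL_cons c10 (allL_cons c11 (allL_cons c12 (allL_cons c13 (allL_cons c14 (allL_cons c15 (allL_cons c16 (allL_cons c17 (allL_cons c18 (allL_cons c19 (allL_cons c20 (allL_cons c21 (allL_cons c22 (allL_cons c23 (allL_cons c24 (allL_cons c25 (allL_cons c26 (allL_cons c27 (allL_cons c28 (allL_cons c29 (allL_cons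 c30 (allL_cons c31 (allL_cons c32 (allL_cons c33 (allL_cons c34 (allL_cons c35 (allL_cons c36 (allL_cons c37 (allL_cons c38 (allL_cons c39 (allL_cons c40 (allL_cons c41 (allL_cons c42 (allL_cons c43 (allL_cons c44 (allL_cons c45 (allL_cons c46 (allL_cons c47 (allL_cons c48 (allL_cons c49 (allL_cons c50 (allL_cons c51 (allL_cons c52 (allL_cons c53 (allL_nil _))))))))))))))))))))))))))))))))))))))))))))))))))))
  lt := by decide +kernel
  triv := appT_triv (by decide +kernel)
  trivk := c54

/-- The group generated by the basic tables. -/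
noncomputable abbrev PG : Subgroup (Equiv.Perm (Fin 4095)) := tabGroup 4095 16 app 3

noncomputable def act : Act PG (Fin 4095) := tabOK.act

theorem chain : ChainOK act mc [] :=
  chainOK_of_chk act mc [] (by simp) (okc_of_okcb c61) c62
  (allL_cons c55 (allL_cons c56 (allL_cons c57 (allL_cons c58 (allL_cons c59 (allL_cons c60 (allL_nil _)))))))

theorem bounds : Bounds tcR tcS 251596800 :=
  (show prodTC tc = 251596800 by decide +kernel) ▸ bounds_of_chain c85
  (allL_cons c63 (allL_cons c75 (allL_cons c77 (allL_cons c79 (allL_cons c81 (allL_cons c83 (allL_nil _)))))))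
  (allL_cons (show allL (fun a => tc0.chk a 0 4095) [43,44,45,46,47,48,49,50,51,52,53] = true from (allL_cons c64 (allL_cons c65 (allL_cons c66 (allL_cons c67 (allL_cons c68 (allL_cons c69 (allL_cons c70 (allL_cons c71 (allL_cons c72 (allL_cons c73 (allL_cons c74 (allL_nil _))))))))))))) (allL_cons c76 (allL_cons c78 (allL_cons c80 (allL_cons c82 (allL_cons c84 (allL_nil _)))))))

theorem rels : ∀ v ∈ tcR, ev act.gen v = 1 :=
  tabOK.rels (allL_cons c86 (allL_cons c87 (allL_cons c88 (allL_cons c89 (allL_cons c90 (allL_cons c91 (allL_cons c92 (allL_cons c93 (allL_cons c94 (allL_cons c95 (allL_cons c96 (allL_cons c97 (allL_cons c98 (allL_cons c99 (allL_cons c100 (allL_cons c101 (allL_cons c102 (allL_cons c103 (allL_cons c104 (allL_cons c105 (allL_cons c106 (allL_cons c107 (allL_cons c108 (allL_cons c109 (allL_cons c110 (allL_cons c111 (allL_cons c112 (allL_cons c113 (allL_cons c114 (allL_cons c115 (allL_cons c116 (allL_cons c117 (allL_cons c118 (allL_cons c119 (allL_cons c120 (allL_cons c121 (allL_cons c122 (allL_cons c123 (allL_cons c124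 (allL_cons c125 (allL_cons c126 (allL_cons c127 (allL_cons c128 (allL_cons c129 (allL_cons c130 (allL_nil _))))))))))))))))))))))))))))))))))))))))))))))

theorem clS : cl act.gen tcS = ⊤ :=
  tabOK.cl_eq_top_of_words (Ws := inW) (by decide +kernel) (allRange_of_allL (l := [0,1,2]) (by decide +kernel) (allL_cons c131 (allL_cons c132 (allL_cons c133 (allL_nil _)))))

theorem prod_mc : prodN mc = 251596800 := by decide +kernel

theorem le_card : 251596800 ≤ Nat.card PG := prod_mc ▸ chain.prodN_le_card

theorem card_le : Nat.card PG ≤ prodN mc := prod_mc ▸ (bounds.card_le rels clS).2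

theorem card : Nat.card PG = 251596800 := prod_mc ▸ chain.card_eq card_le

theorem base : act.IsBase bs := (show bases mc = bs from (eqL_iff _ _).1 (by decide +kernel)) ▸ chain.isBase card_le

theorem hinv : ∀ a, act.gen (inv a) = (act.gen a)⁻¹ :=
  tabOK.inv (by decide) base (by decide +kernel) (by decide +kernel)

theorem clAT : cl act.gen [8, 10] = ⊤ :=
  tabOK.cl_eq_top_of_chain (lo := 8) (cnt := 35) (by decide) (by decide) (by decide +kernel) chain card_le (by decide +kernel)

end Cfsg.Agent.CG.G24
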